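import Groth.Prelude.Def_QuadGrp
import Mathlib.LinearAlgebra.Matrix.SchurComplement
import Mathlib.LinearAlgebra.Matrix.Dual
import Mathlib.RingTheory.Polynomial.UniqueFactorization
import Mathlib.RingTheory.IntegralClosure.IntegrallyClosed
import Mathlib.RingTheory.Localization.FractionRing
import Mathlib.Tactic

/-! A Pfaffian: a square root of the determinant of an alternating matrix, compatible with congruence. -/

namespace QuadGrpLib

open Matrix Finset

universe u v

/-- Zero diagonal and skew. -/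
def IsAltMat {R : Type*} [CommRing R] {ι : Type*} (A : Matrix ι ι R) : Prop :=
  (∀ i, A i i = 0) ∧ ∀ i j, A j i = -A i j

theorem IsAltMat.exists_det_eq_sq {K : Type*} [Field K] :
    ∀ {n : ℕ} {A : Matrix (Fin n) (Fin n) K}, IsAltMat A → ∃ c, A.det = c ^ 2 := by
  intro n
  induction n using Nat.strong_induction_on with
  | _ n ih =>
    intro A hA
    match n with
    | 0 => exact ⟨1, by simp⟩
    | 1 => exact ⟨0, by simp [Matrix.det_unique, hA.1]⟩
    | m + 2 =>
      by_cases h0 : ∀ j, A 0 j = 0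
      · exact ⟨0, by rw [Matrix.det_eq_zero_of_row_eq_zero 0 h0]; ring⟩
      push Not at h0
      obtain ⟨j, hj⟩ := h0
      have hj0 : j ≠ 0 := fun h => hj (h ▸ hA.1 0)
      let σ : Fin (m + 2) ≃ Fin (m + 2) := Equiv.swap 1 j
      let e : Fin 2 ⊕ Fin m ≃ Fin (m + 2) := finSumFinEquiv.trans (finCongr (by omega))
      let T := A.submatrix (σ ∘ e) (σ ∘ e)
      have hTd : T.det = A.det := Matrix.det_submatrix_equiv_self (e.trans σ) A
      have he0 : e (Sum.inl 0) = 0 := by ext; simp [e, finSumFinEquiv]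
      have he1 : e (Sum.inl 1) = 1 := by ext; simp [e, finSumFinEquiv]
      have hσ0 : σ 0 = 0 := Equiv.swap_apply_of_ne_of_ne (by simp) hj0.symm
      have hσ1 : σ 1 = j := Equiv.swap_apply_left _ _
      set a := A 0 j with ha
      have hT01 : T (Sum.inl 0) (Sum.inl 1) = a := by simp [T, he0, he1, hσ0, hσ1, ha]
      have hT : IsAltMat T := ⟨fun i => hA.1 _, fun i k => hA.2 _ _⟩
      set P := T.toBlocks₁₁ with hP
      have hPd : P.det = a ^ 2 := by
        rw [hP, Matrix.det_fin_two]
        simp only [Matrix.toBlocks₁₁, Matrix.of_apply, hT.1, hT01, hT.2 (Sum.inl 0) (Sum.inl 1)]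
        ring
      haveI : Invertible P := Matrix.invertibleOfIsUnitDet P (by rw [hPd]; exact (pow_ne_zero 2 hj).isUnit)
      have hPs : Pᵀ = -P := by
        ext i k; exact hT.2 (Sum.inl i) (Sum.inl k)
      have hPid : IsAltMat (⅟P) := by
        have hinv : ⅟P = (P.det)⁻¹ • P.adjugate := by
          rw [Matrix.invOf_eq_nonsing_inv, Matrix.inv_def, Ring.inverse_eq_inv']
        have hs : ∀ i, P i i = 0 := fun i => hT.1 (Sum.inl i)
        have hk : P 1 0 = -P 0 1 := hT.2 (Sum.inl 0) (Sum.inl 1)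
        rw [hinv, Matrix.adjugate_fin_two]
        refine ⟨fun i => ?_, fun i k => ?_⟩
        · fin_cases i <;> simp [hs]
        · fin_cases i <;> fin_cases k <;> simp [hs, hk]
      set C := T.toBlocks₂₂ - T.toBlocks₂₁ * ⅟P * T.toBlocks₁₂ with hC
      have hCalt : IsAltMat C := by
        have h21 : ∀ i c, T.toBlocks₂₁ i c = -T.toBlocks₁₂ c i := fun i c => hT.2 (Sum.inl c) (Sum.inr i)
        have key : ∀ i k, (T.toBlocks₂₁ * ⅟P * T.toBlocks₁₂) i k =
            -(∑ c, ∑ d, T.toBlocks₁₂ c i * (⅟P) c d * T.toBlocks₁₂ d k) := by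
          intro i k
          simp only [Matrix.mul_apply, h21, Finset.sum_mul, ← Finset.sum_neg_distrib]
          rw [Finset.sum_comm]
          exact Finset.sum_congr rfl fun _ _ => Finset.sum_congr rfl fun _ _ => by ring
        refine ⟨fun i => ?_, fun i k => ?_⟩
        · rw [hC, Matrix.sub_apply, key, Fin.sum_univ_two, Fin.sum_univ_two, Fin.sum_univ_two,
            hPid.1, hPid.1, hPid.2 0 1]
          simp [Matrix.toBlocks₂₂, hT.1]
          ring
        · rw [hC, Matrix.sub_apply, Matrix.sub_apply, key, key, Finset.sum_comm]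
          simp only [Matrix.toBlocks₂₂, Matrix.of_apply, hT.2 (Sum.inr i) (Sum.inr k)]
          simp only [Fin.sum_univ_two, hPid.1, hPid.2 0 1]
          ring
      obtain ⟨c, hc⟩ := ih m (by omega) hCalt
      refine ⟨a * c, ?_⟩
      rw [← hTd, ← Matrix.fromBlocks_toBlocks T, Matrix.det_fromBlocks₁₁, hPd, hc]
      ring

/-- The generic alternating matrix. -/
noncomputable def genAlt (n : ℕ) : Matrix (Fin n) (Fin n) (MvPolynomial (Fin n × Fin n) ℤ) :=
  Matrix.of fun i j => if i < j then MvPolynomial.X (i, j) else if j < i then -MvPolynomial.X (j, i) else 0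

theorem genAlt_isAlt (n : ℕ) : IsAltMat (genAlt n) := by
  refine ⟨fun i => by simp [genAlt], fun i j => ?_⟩
  rcases lt_trichotomy i j with h | rfl | h
  · simp [genAlt, h, h.not_gt]
  · simp [genAlt]
  · simp [genAlt, h, h.not_gt]

theorem exists_pfUniv (n : ℕ) : ∃ p : MvPolynomial (Fin n × Fin n) ℤ, (genAlt n).det = p ^ 2 := by
  let P := MvPolynomial (Fin n × Fin n) ℤ
  let K := FractionRing P
  have h : IsAltMat ((genAlt n).map (algebraMap P K)) :=
    ⟨fun i => by simp [(genAlt_isAlt n).1 i], fun i j => by simp [(genAlt_isAlt n).2 i j]⟩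
  obtain ⟨c, hc⟩ := h.exists_det_eq_sq
  rw [← RingHom.mapMatrix_apply, ← RingHom.map_det] at hc
  have hi : IsIntegral P c := by
    refine IsIntegral.of_pow (n := 2) two_pos ?_
    rw [← hc]
    exact isIntegral_algebraMap
  obtain ⟨p, hp⟩ := IsIntegrallyClosed.isIntegral_iff.mp hi
  refine ⟨p, IsFractionRing.injective P K ?_⟩
  rw [hc, map_pow, hp]

/-- The universal Pfaffian (up to sign). -/
noncomputable def pfUniv (n : ℕ) : MvPolynomial (Fin n × Fin n) ℤ := (exists_pfUniv n).choose

theorem pfUniv_sq (n : ℕ) : (genAlt n).det = pfUniv n ^ 2 := (exists_pfUniv n).choose_spec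

variable {R : Type u} [CommRing R] {n : ℕ}

/-- The Pfaffian (up to a universal sign). -/
noncomputable def pf (A : Matrix (Fin n) (Fin n) R) : R :=
  MvPolynomial.eval₂ (Int.castRingHom R) (fun p => A p.1 p.2) (pfUniv n)

theorem map_pf {S : Type*} [CommRing S] (f : R →+* S) (A : Matrix (Fin n) (Fin n) R) :
    f (pf A) = pf (A.map f) := by
  rw [pf, pf, MvPolynomial.eval₂_comp_left f]
  congr 1
  exact RingHom.ext_int _ _

theorem genAlt_map {A : Matrix (Fin n) (Fin n) R} (hA : IsAltMat A) :
    (genAlt n).map (MvPolynomial.eval₂Hom (Int.castRingHom R) fun p => A p.1 p.2) = A := by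
  ext i j
  rcases lt_trichotomy i j with h | rfl | h
  · simp [genAlt, h]
  · simp [genAlt, hA.1]
  · simp [genAlt, h, h.not_gt, hA.2 j i]

theorem pf_sq {A : Matrix (Fin n) (Fin n) R} (hA : IsAltMat A) : pf A ^ 2 = A.det := by
  have h := congrArg (MvPolynomial.eval₂Hom (Int.castRingHom R) fun p => A p.1 p.2) (pfUniv_sq n)
  rw [RingHom.map_det, RingHom.mapMatrix_apply, genAlt_map hA, map_pow] at h
  rw [h]; rfl

theorem IsAltMat.congr {A : Matrix (Fin n) (Fin n) R} (hA : IsAltMat A) (G : Matrix (Fin n) (Fin n) R) :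
    IsAltMat (Gᵀ * A * G) := by
  have hv : ∀ x : Fin n → R, ∑ a, ∑ c, x a * A a c * x c = 0 := by
    intro x
    rw [← Finset.sum_product']
    refine Finset.sum_involution (fun p _ => (p.2, p.1)) (fun p _ => ?_) (fun p _ hne h => hne ?_)
      (fun p _ => by simp) (fun p _ => rfl)
    · show x p.1 * A p.1 p.2 * x p.2 + x p.2 * A p.2 p.1 * x p.1 = 0
      rw [hA.2 p.1 p.2]; ring
    · obtain ⟨a, c⟩ := p
      have : a = c := (congrArg Prod.snd h)
      subst this
      simp [hA.1]
  refine ⟨fun i => ?_, fun i j => ?_⟩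
  · rw [← hv (fun a => G a i)]
    simp only [Matrix.mul_apply, Matrix.transpose_apply, Finset.sum_mul]
    rw [Finset.sum_comm]
  · simp only [Matrix.mul_apply, Matrix.transpose_apply, Finset.sum_mul, ← Finset.sum_neg_distrib]
    rw [Finset.sum_comm]
    refine Finset.sum_congr rfl fun a _ => Finset.sum_congr rfl fun c _ => ?_
    rw [hA.2 c a]; ring

theorem pf_congr {A : Matrix (Fin n) (Fin n) R} (hA : IsAltMat A) (G : Matrix (Fin n) (Fin n) R) :
    pf (Gᵀ * A * G) = G.det * pf A := by
  let A0 : Matrix (Fin n) (Fin n) (MvPolynomial ((Fin n × Fin n) ⊕ (Fin n × Fin n)) ℤ) := (genAlt n).map (MvPolynomial.rename Sum.inl).toRingHom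
  let G0 : Matrix (Fin n) (Fin n) (MvPolynomial ((Fin n × Fin n) ⊕ (Fin n × Fin n)) ℤ) := Matrix.of fun i j => MvPolynomial.X (Sum.inr (i, j))
  have hA0 : IsAltMat A0 :=
    ⟨fun i => by simp [A0, (genAlt_isAlt n).1 i], fun i j => by simp [A0, (genAlt_isAlt n).2 i j]⟩
  have key : pf (G0ᵀ * A0 * G0) = G0.det * pf A0 := by
    have hsq : pf (G0ᵀ * A0 * G0) ^ 2 = (G0.det * pf A0) ^ 2 := by
      rw [pf_sq (hA0.congr G0), mul_pow, pf_sq hA0, Matrix.det_mul, Matrix.det_mul, Matrix.det_transpose]
      ring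
    rcases sq_eq_sq_iff_eq_or_eq_neg.mp hsq with h | h
    · exact h
    · -- the sign is fixed by the specialisation `G = 1`
      let f : (MvPolynomial ((Fin n × Fin n) ⊕ (Fin n × Fin n)) ℤ) →+* (MvPolynomial ((Fin n × Fin n) ⊕ (Fin n × Fin n)) ℤ) := MvPolynomial.eval₂Hom (Int.castRingHom (MvPolynomial ((Fin n × Fin n) ⊕ (Fin n × Fin n)) ℤ))
        (Sum.elim (fun p => MvPolynomial.X (Sum.inl p)) fun p => if p.1 = p.2 then 1 else 0)
      have hfG : G0.map f = 1 := by
        refine Matrix.ext fun i j => ?_; by_cases hij : i = j <;> simp [G0, f, hij, Matrix.one_apply]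
      have hfA : A0.map f = A0 := by
        refine Matrix.ext fun i j => ?_
        rcases lt_trichotomy i j with hij | rfl | hij
        · simp [A0, genAlt, f, hij]
        · simp [A0, genAlt]
        · simp [A0, genAlt, f, hij, hij.not_gt]
      have h' := congrArg f h
      rw [map_neg, map_mul, map_pf, map_pf, Matrix.map_mul, Matrix.map_mul, Matrix.transpose_map,
        hfG, hfA, Matrix.transpose_one, Matrix.one_mul, Matrix.mul_one, RingHom.map_det,
        RingHom.mapMatrix_apply, hfG, Matrix.det_one, one_mul] at h'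
      have hp0 : pf A0 = 0 := by
        refine (mul_eq_zero.mp (?_ : (2 : (MvPolynomial ((Fin n × Fin n) ⊕ (Fin n × Fin n)) ℤ)) * pf A0 = 0)).resolve_left two_ne_zero
        linear_combination h'
      rw [h, hp0, mul_zero, neg_zero]
  let φ : (MvPolynomial ((Fin n × Fin n) ⊕ (Fin n × Fin n)) ℤ) →+* R := MvPolynomial.eval₂Hom (Int.castRingHom R)
    (Sum.elim (fun p => A p.1 p.2) fun p => G p.1 p.2)
  have hφG : G0.map φ = G := by ext i j; simp [G0, φ]
  have hφA : A0.map φ = A := by
    refine Matrix.ext fun i j => ?_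
    rcases lt_trichotomy i j with h | rfl | h
    · simp [A0, genAlt, φ, h]
    · simp [A0, genAlt, φ, hA.1]
    · simp [A0, genAlt, φ, h, h.not_gt, hA.2 j i]
  have h := congrArg φ key
  rw [map_mul, map_pf, map_pf, RingHom.map_det, RingHom.mapMatrix_apply, Matrix.map_mul, Matrix.map_mul,
    Matrix.transpose_map, hφG, hφA] at h
  exact h

/-- A matrix preserving an invertible alternating form has determinant one. -/
theorem det_eq_one_of_congr {A : Matrix (Fin n) (Fin n) R} (hA : IsAltMat A) (hu : IsUnit A.det)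
    {G : Matrix (Fin n) (Fin n) R} (hG : Gᵀ * A * G = A) : G.det = 1 := by
  have h := pf_congr hA G
  rw [hG] at h
  have hp : IsUnit (pf A) := by rw [← isUnit_pow_iff two_ne_zero, pf_sq hA]; exact hu
  exact hp.mul_right_cancel (by rw [one_mul]; exact h.symm)

variable {M : Type v} [AddCommGroup M] [Module R M]

/-- The polar matrix of `Q` in a basis. -/
noncomputable def polarMat (b : Module.Basis (Fin n) R M) (Q : QuadraticForm R M) : Matrix (Fin n) (Fin n) R :=
  Matrix.of fun i j => QuadraticMap.polar Q (b i) (b j)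

theorem toMatrix_polarBilin (b : Module.Basis (Fin n) R M) (Q : QuadraticForm R M) :
    LinearMap.toMatrix b b.dualBasis (QuadraticMap.polarBilin Q) = (polarMat b Q)ᵀ := by
  ext i j
  simp [polarMat, LinearMap.toMatrix_apply]

theorem isUnit_det_polarMat (b : Module.Basis (Fin n) R M) (Q : QuadraticForm R M)
    (hQ : QuadGrp.IsRegular Q) : IsUnit (polarMat b Q).det := by
  let e := LinearEquiv.ofBijective (QuadraticMap.polarBilin Q) hQ
  have h := LinearEquiv.isUnit_det e b b.dualBasis
  rw [show (e : M →ₗ[R] Module.Dual R M) = QuadraticMap.polarBilin Q from rfl, toMatrix_polarBilin,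
    Matrix.det_transpose] at h
  exact h

theorem polarMat_congr (b : Module.Basis (Fin n) R M) (Q : QuadraticForm R M) (g : M →ₗ[R] M)
    (hg : ∀ x, Q (g x) = Q x) :
    (LinearMap.toMatrix b b g)ᵀ * polarMat b Q * LinearMap.toMatrix b b g = polarMat b Q := by
  ext i j
  have hp : QuadraticMap.polarBilin Q (g (b i)) (g (b j)) = QuadraticMap.polar Q (b i) (b j) := by
    rw [QuadraticMap.polarBilin_apply_apply, QuadraticMap.polar, QuadraticMap.polar, ← map_add, hg, hg, hg]
  rw [← b.sum_repr (g (b i)), ← b.sum_repr (g (b j))] at hp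
  simp only [map_sum, map_smul, LinearMap.sum_apply, LinearMap.smul_apply, smul_eq_mul, Finset.mul_sum,
    QuadraticMap.polarBilin_apply_apply] at hp
  rw [show polarMat b Q i j = QuadraticMap.polar Q (b i) (b j) from rfl, ← hp]
  simp only [polarMat, Matrix.mul_apply, Matrix.transpose_apply, Matrix.of_apply, Finset.sum_mul,
    LinearMap.toMatrix_apply]
  refine Finset.sum_congr rfl fun a _ => Finset.sum_congr rfl fun c _ => ?_
  ring

end QuadGrpLib
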