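import Groth.Agent.QuadGrpL.Glue
import Mathlib.LinearAlgebra.QuadraticForm.Radical
import Mathlib.LinearAlgebra.Dimension.FreeAndStrongRankCondition
import Mathlib.Tactic

/-! The half-discriminant over a field detects non-degeneracy. -/

namespace QuadGrpLib

open Matrix Finset TensorProduct

universe u v u'

/-- If row `i` of the polar matrix vanishes off the diagonal, the half-discriminant splits. -/
theorem hU_of_row {k : Type*} [CommRing k] {n : ℕ} (hn : Odd n) (U : Matrix (Fin n) (Fin n) k)
    (i : Fin n) (ho : ∀ j, j ≠ i → U i j + U j i = 0) :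
    hU U = U i i * (U + Uᵀ).adjugate i i := by
  classical
  let V : Matrix (Fin n) (Fin n) (MvPolynomial k ℤ) := Matrix.of fun a b =>
    if (a = i ∨ b = i) ∧ a ≠ b then 0 else MvPolynomial.X (U a b)
  have hV : hU V = V i i * (V + Vᵀ).adjugate i i := by
    refine mul_left_cancel₀ (two_ne_zero : (2 : MvPolynomial k ℤ) ≠ 0) ?_
    rw [two_mul_hU hn]
    have h := congrFun (congrFun (Matrix.mul_adjugate (V + Vᵀ)) i) i
    rw [Matrix.smul_apply, Matrix.one_apply_eq, smul_eq_mul, mul_one, Matrix.mul_apply,
      Finset.sum_eq_single i] at h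
    · rw [← h]
      simp [two_mul, add_mul]
    · intro b _ hb
      simp [V, hb, Ne.symm hb]
    · simp
  have h := congrArg (liftHom k) hV
  have hP : (V + Vᵀ).map (liftHom k) = U + Uᵀ := by
    ext a b
    by_cases hab : a = b
    · subst hab; simp [V, liftHom]
    · by_cases ha : a = i
      · subst ha; simp [V, hab, Ne.symm hab, ho b (Ne.symm hab)]
      · by_cases hb : b = i
        · subst hb; simp [V, hab, Ne.symm hab]; rw [add_comm]; exact (ho a hab).symm
        · simp [V, ha, hb, liftHom]
  rw [map_mul, map_hU] at h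
  have hadj : liftHom k ((V + Vᵀ).adjugate i i) = (U + Uᵀ).adjugate i i := by
    rw [← hP, ← RingHom.mapMatrix_apply, ← RingHom.map_adjugate, RingHom.mapMatrix_apply,
      Matrix.map_apply]
  rw [hadj] at h
  have hd : liftHom k (V i i) = U i i := by simp [V, liftHom]
  rw [hd] at h
  rw [← h, hU, hU]
  congr 1
  funext z
  induction z using Sym2.ind with
  | h a b =>
    by_cases hab : a = b
    · subst hab; simp [uCoeff, V, liftHom]
    · by_cases ha : a = i
      · subst ha; simp [uCoeff, V, hab, Ne.symm hab, ho b (Ne.symm hab)]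
      · by_cases hb : b = i
        · subst hb; simp [uCoeff, V, hab, Ne.symm hab]; rw [add_comm]; exact ho a hab
        · simp [uCoeff, V, ha, hb, hab, liftHom]

variable {k : Type u} [Field k] {V : Type v} [AddCommGroup V] [Module k V] {n : ℕ}

theorem repr_vecMul_eq (b : Module.Basis (Fin n) k V) (B : LinearMap.BilinMap k V k) (x : V) (c : Fin n) :
    (⇑(b.repr x) ᵥ* ((Matrix.of fun i j => B (b i) (b j)) + (Matrix.of fun i j => B (b i) (b j))ᵀ)) c =
      QuadraticMap.polarBilin B.toQuadraticMap x (b c) := by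
  rw [QuadraticMap.polarBilin_apply_apply, LinearMap.BilinMap.polar_toQuadraticMap]
  have h1 : B x (b c) = ∑ a, b.repr x a * B (b a) (b c) := by
    conv_lhs => rw [← b.sum_repr x]
    simp only [map_sum, map_smul, LinearMap.sum_apply, LinearMap.smul_apply, smul_eq_mul]
  have h2 : B (b c) x = ∑ a, b.repr x a * B (b c) (b a) := by
    conv_lhs => rw [← b.sum_repr x]
    simp only [map_sum, map_smul, smul_eq_mul]
  rw [h1, h2]
  simp [Matrix.vecMul, dotProduct, mul_add, Finset.sum_add_distrib]

theorem mem_ker_iff (b : Module.Basis (Fin n) k V) (B : LinearMap.BilinMap k V k) (x : V) :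
    x ∈ (QuadraticMap.polarBilin B.toQuadraticMap).ker ↔
      ⇑(b.repr x) ᵥ* ((Matrix.of fun i j => B (b i) (b j)) + (Matrix.of fun i j => B (b i) (b j))ᵀ) = 0 := by
  rw [LinearMap.mem_ker]
  constructor
  · intro h; funext c; rw [repr_vecMul_eq, h]; simp
  · intro h; refine b.ext fun c => ?_; rw [← repr_vecMul_eq b B x c, h]; simp

theorem updateRow_det {k : Type*} [CommRing k] (a : Fin n) (w : Fin n → k) :
    ((1 : Matrix (Fin n) (Fin n) k).updateRow a w).det = w a := by
  have := Matrix.det_updateRow_sum (1 : Matrix (Fin n) (Fin n) k) a w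
  rw [Matrix.det_one, smul_eq_mul, mul_one] at this
  rw [← this]
  congr 2
  funext b
  simp [Finset.sum_apply, Matrix.one_apply]

theorem quad_eq (b : Module.Basis (Fin n) k V) (B : LinearMap.BilinMap k V k) (x : V) :
    B.toQuadraticMap x = ∑ a, ∑ c, b.repr x a * b.repr x c * B (b a) (b c) := by
  rw [LinearMap.BilinMap.toQuadraticMap_apply]
  conv_lhs => rw [← b.sum_repr x]
  simp only [map_sum, map_smul, LinearMap.sum_apply, LinearMap.smul_apply, smul_eq_mul, Finset.mul_sum]
  refine Finset.sum_comm.trans ?_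
  exact Finset.sum_congr rfl fun a _ => Finset.sum_congr rfl fun c _ => by ring

theorem mem_radical_of {Q : QuadraticForm k V} {x : V} (hx : x ∈ (QuadraticMap.polarBilin Q).ker)
    (h0 : Q x = 0) : x ∈ Q.radical := by
  rw [QuadraticMap.mem_radical_iff']
  refine ⟨h0, fun y => ?_⟩
  have hp : QuadraticMap.polar Q x y = 0 := by
    rw [← QuadraticMap.polarBilin_apply_apply, LinearMap.mem_ker.mp hx]; rfl
  rw [QuadraticMap.polar, h0] at hp
  linear_combination hp

theorem nondegenerate_iff_halfDisc_ne_zero (hn : Odd n) (b : Module.Basis (Fin n) k V)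
    (Q : QuadraticForm k V) :
    Q.Nondegenerate ↔ QuadGrp.halfDisc b (LinearEquiv.refl k k) Q ≠ 0 := by
  classical
  obtain ⟨B, rfl⟩ := exists_lift b Q
  rw [halfDisc_eq_hU b _ B rfl]
  set U : Matrix (Fin n) (Fin n) k := Matrix.of fun i j => B (b i) (b j) with hUdef
  have hker := mem_ker_iff b B
  rw [← hUdef] at hker
  have hrad : ∀ x, x ∈ B.toQuadraticMap.radical →
      x ∈ (QuadraticMap.polarBilin B.toQuadraticMap).ker := by
    intro x hx
    rw [QuadraticMap.mem_radical_iff'] at hx
    rw [LinearMap.mem_ker]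
    ext y
    rw [QuadraticMap.polarBilin_apply_apply, QuadraticMap.polar, hx.1, hx.2 y]
    simp
  have hdet0 : (U + Uᵀ).det ≠ 0 → (QuadraticMap.polarBilin B.toQuadraticMap).ker = ⊥ := by
    intro hd
    rw [Submodule.eq_bot_iff]
    intro x hx
    have := (hker x).mp hx
    by_contra hx0
    exact hd (Matrix.exists_vecMul_eq_zero_iff.mp ⟨_, fun h => hx0 (b.repr.injective
      (by rw [map_zero]; exact DFunLike.coe_injective (by simpa using h))), this⟩)
  constructor
  · rintro ⟨hr, hrk⟩ hU0
    have hd : (U + Uᵀ).det = 0 := by rw [← two_mul_hU hn, hU0, mul_zero]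
    obtain ⟨y, hy0, hy⟩ := Matrix.exists_vecMul_eq_zero_iff.mpr hd
    set x : V := b.equivFun.symm y with hxdef
    have hxr : ⇑(b.repr x) = y := by
      rw [← b.equivFun_apply, hxdef, LinearEquiv.apply_symm_apply]
    have hxk : x ∈ (QuadraticMap.polarBilin B.toQuadraticMap).ker := (hker x).mpr (by rw [hxr]; exact hy)
    have hx0 : x ≠ 0 := fun h => hy0 (by rw [← hxr, h]; simp)
    have hqx : B.toQuadraticMap x ≠ 0 := fun h =>
      hx0 (by have := mem_radical_of hxk h; rwa [hr, Submodule.mem_bot] at this)
    have h2 : (2 : k) = 0 := by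
      have h := hxk
      rw [LinearMap.mem_ker] at h
      have h' := LinearMap.congr_fun h x
      rw [QuadraticMap.polarBilin_apply_apply, QuadraticMap.polar_self, LinearMap.zero_apply,
        nsmul_eq_mul, Nat.cast_ofNat] at h'
      exact (mul_eq_zero.mp h').resolve_right hqx
    obtain ⟨i, hi⟩ := Function.ne_iff.mp hy0
    set L := (1 : Matrix (Fin n) (Fin n) k).updateRow i y with hL
    have hLdet : L.det = y i := updateRow_det i y
    have hrow : ∀ j, (L * (U + Uᵀ) * Lᵀ) i j = 0 := by
      intro j
      rw [Matrix.mul_apply]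
      refine Finset.sum_eq_zero fun c _ => ?_
      have : (L * (U + Uᵀ)) i c = (y ᵥ* (U + Uᵀ)) c := by simp [L, Matrix.mul_apply, Matrix.vecMul, dotProduct]
      rw [this, hy, Pi.zero_apply, zero_mul]
    have hsplit : L * (U + Uᵀ) * Lᵀ = L * U * Lᵀ + (L * U * Lᵀ)ᵀ := by
      simp [Matrix.transpose_mul, Matrix.mul_add, Matrix.add_mul, Matrix.mul_assoc]
    have hz := hU_congr hn U L
    rw [hU0, mul_zero, hU_of_row hn _ i (fun j _ => by
      have := hrow j; rw [hsplit] at this; exact this)] at hz
    have hUii : (L * U * Lᵀ) i i = B.toQuadraticMap x := by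
      rw [quad_eq b B x, hxr, Matrix.mul_apply]
      simp only [L, Matrix.mul_apply, Matrix.transpose_apply, Matrix.updateRow_self, Finset.sum_mul]
      rw [Finset.sum_comm]
      exact Finset.sum_congr rfl fun _ _ => Finset.sum_congr rfl fun _ _ => by simp [U]; ring
    rw [hUii, ← hsplit] at hz
    have hadj := (mul_eq_zero.mp hz).resolve_left hqx
    rw [Matrix.adjugate_apply] at hadj
    obtain ⟨z, hz0, hzP⟩ := Matrix.exists_vecMul_eq_zero_iff.mpr hadj
    have hsymm : ∀ a c, (L * (U + Uᵀ) * Lᵀ) a c = (L * (U + Uᵀ) * Lᵀ) c a := by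
      intro a c; rw [hsplit, Matrix.add_apply, Matrix.add_apply, Matrix.transpose_apply,
        Matrix.transpose_apply, add_comm]
    have hzi : z i = 0 := by
      have := congrFun hzP i
      rw [Matrix.vecMul, dotProduct, Finset.sum_eq_single i] at this
      · simpa using this
      · intro c _ hc
        rw [Matrix.updateRow_ne hc, hsymm, hrow, mul_zero]
      · simp
    have hzP' : z ᵥ* (L * (U + Uᵀ) * Lᵀ) = 0 := by
      rw [← hzP]; funext c
      simp only [Matrix.vecMul, dotProduct]
      refine Finset.sum_congr rfl fun a _ => ?_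
      by_cases ha : a = i
      · subst ha; simp [hzi]
      · rw [Matrix.updateRow_ne ha]
    have hLu : IsUnit L.det := by rw [hLdet]; exact (Ne.isUnit hi)
    have hzL : (z ᵥ* L) ᵥ* (U + Uᵀ) = 0 := by
      have : ((z ᵥ* L) ᵥ* (U + Uᵀ)) ᵥ* Lᵀ = 0 := by
        rw [Matrix.vecMul_vecMul, Matrix.vecMul_vecMul, ← Matrix.mul_assoc]
        exact hzP'
      by_contra hne
      have hT := Matrix.exists_vecMul_eq_zero_iff.mp ⟨_, hne, this⟩
      rw [Matrix.det_transpose] at hT
      exact hLu.ne_zero hT
    obtain ⟨v₀, hv₀⟩ := (rank_submodule_le_one_iff' _).mp hrk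
    set w : V := b.equivFun.symm (z ᵥ* L) with hwdef
    have hwr : ⇑(b.repr w) = z ᵥ* L := by rw [← b.equivFun_apply, hwdef, LinearEquiv.apply_symm_apply]
    obtain ⟨c, hc⟩ := Submodule.mem_span_singleton.mp (hv₀ ((hker w).mpr (by rw [hwr]; exact hzL)))
    obtain ⟨d, hd'⟩ := Submodule.mem_span_singleton.mp (hv₀ hxk)
    have hd0 : d ≠ 0 := fun h => hx0 (by rw [← hd', h, zero_smul])
    have hwy : z ᵥ* L = (c / d) • y := by
      rw [← hwr, ← hxr, ← hc, ← hd']
      ext a; simp; field_simp
    have hei : (Pi.single i (1 : k) : Fin n → k) ᵥ* L = y := by funext c; simp [L]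
    have : z = (c / d) • (Pi.single i (1 : k) : Fin n → k) := by
      by_contra hne
      refine hLu.ne_zero (Matrix.exists_vecMul_eq_zero_iff.mp ⟨_, sub_ne_zero.mpr hne, ?_⟩)
      rw [Matrix.sub_vecMul, Matrix.smul_vecMul, hei, hwy, sub_self]
    rw [this] at hzi
    simp at hzi
    exact hz0 (by rw [this]; rcases hzi with h | h <;> simp [h])
  · intro hne
    refine ⟨?_, ?_⟩
    · rw [Submodule.eq_bot_iff]
      intro x hx
      by_contra hx0
      have hy := (hker x).mp (hrad x hx)
      have hy0 : ⇑(b.repr x) ≠ 0 := fun h => hx0 (b.repr.injective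
        (by rw [map_zero]; exact DFunLike.coe_injective (by simpa using h)))
      obtain ⟨i, hi⟩ := Function.ne_iff.mp hy0
      set L := (1 : Matrix (Fin n) (Fin n) k).updateRow i ⇑(b.repr x) with hL
      have hz : hU (L * U * Lᵀ) = 0 := by
        refine hU_eq_zero_of_row hn _ i ?_ fun j => ?_
        · have : (L * U * Lᵀ) i i = B.toQuadraticMap x := by
            rw [quad_eq b B x, Matrix.mul_apply]
            simp only [L, Matrix.mul_apply, Matrix.transpose_apply, Matrix.updateRow_self, Finset.sum_mul]
            rw [Finset.sum_comm]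
            exact Finset.sum_congr rfl fun _ _ => Finset.sum_congr rfl fun _ _ => by simp [U]; ring
          rw [this]; exact (QuadraticMap.mem_radical_iff'.mp hx).1
        · have : (L * U * Lᵀ) i j + (L * U * Lᵀ) j i = (L * (U + Uᵀ) * Lᵀ) i j := by
            rw [Matrix.mul_add, Matrix.add_mul, Matrix.add_apply]
            congr 1
            rw [show L * Uᵀ * Lᵀ = (L * U * Lᵀ)ᵀ by simp [Matrix.transpose_mul, Matrix.mul_assoc],
              Matrix.transpose_apply]
          rw [this, Matrix.mul_apply]
          refine Finset.sum_eq_zero fun c _ => ?_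
          have hc : (L * (U + Uᵀ)) i c = (⇑(b.repr x) ᵥ* (U + Uᵀ)) c := by
            simp [L, Matrix.mul_apply, Matrix.vecMul, dotProduct]
          rw [hc, hy, Pi.zero_apply, zero_mul]
      rw [hU_congr hn, updateRow_det] at hz
      exact hne ((mul_eq_zero.mp hz).resolve_left (pow_ne_zero 2 hi))
    · by_cases h2 : (2 : k) = 0
      · haveI : CharP k 2 := CharTwo.of_one_ne_zero_of_two_eq_zero one_ne_zero h2
        haveI : CharP (AlgebraicClosure k) 2 :=
          charP_of_injective_algebraMap (algebraMap k _).injective 2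
        have hu : hU (U.map (algebraMap k (AlgebraicClosure k))) ≠ 0 := by
          rw [← map_hU]; exact (map_ne_zero _).mpr hne
        obtain ⟨j, i, hji⟩ := exists_adjugate_ne_zero hn _ hu
        have hji' : (U + Uᵀ).adjugate j i ≠ 0 := fun h => hji (by
          rw [← Matrix.transpose_map, ← Matrix.map_add _ (map_add _), ← RingHom.mapMatrix_apply,
            ← RingHom.map_adjugate, RingHom.mapMatrix_apply, Matrix.map_apply, h, map_zero])
        refine (rank_submodule_le_one_iff' _).mpr ⟨b.equivFun.symm fun c => (U + Uᵀ).adjugate j c, fun x hx => ?_⟩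
        refine Submodule.mem_span_singleton.mpr ⟨b.repr x i / (U + Uᵀ).adjugate j i, ?_⟩
        apply b.equivFun.injective
        rw [map_smul, LinearEquiv.apply_symm_apply]
        funext c
        have := smul_adjugate_eq ((hker x).mp hx) i j c
        simp only [Pi.smul_apply, smul_eq_mul, b.equivFun_apply]
        field_simp
        linear_combination this
      · rw [hdet0 (by rw [← two_mul_hU hn]; exact mul_ne_zero h2 hne)]
        simp [rank_bot]

theorem halfDisc_baseChange {R : Type u} [CommRing R] {M : Type v} [AddCommGroup M] [Module R M]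
    [Module.Free R M] (A : Type u') [CommRing A] [Algebra R A]
    (b : Module.Basis (Fin n) R M) (Q : QuadraticForm R M) :
    QuadGrp.halfDisc (b.baseChange A) (LinearEquiv.refl A A) (QuadGrp.baseChangeForm A Q) =
      algebraMap R A (QuadGrp.halfDisc b (LinearEquiv.refl R R) Q) := by
  rw [QuadGrp.halfDisc, QuadGrp.halfDisc, MvPolynomial.eval₂_comp_left (algebraMap R A)]
  congr 1
  · exact RingHom.ext_int _ _
  · funext z
    induction z using Sym2.ind with
    | h i j =>
      have hq : ∀ m : M, QuadGrp.baseChangeForm A Q ((1 : A) ⊗ₜ[R] m) = algebraMap R A (Q m) := by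
        intro m
        simp [QuadGrp.baseChangeForm, QuadGrp.baseChange_tmul, Algebra.smul_def]
      by_cases h : i = j
      · subst h; simp [QuadGrp.coeffs_mk, hq]
      · simp [QuadGrp.coeffs_mk, h, QuadraticMap.polar, ← TensorProduct.tmul_add, hq]

end QuadGrpLib
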