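import Groth.Agent.QuadGrpL.Alt
import Mathlib.Algebra.DualNumber

/-! The centraliser of the infinitesimal isometries of a non-degenerate quadratic form. -/

namespace QuadGrpLib

open Matrix Finset QuadraticMap TensorProduct

universe u v

section Transvection

variable {A : Type u} [CommRing A] {V : Type v} [AddCommGroup V] [Module A V] (q : QuadraticForm A V)

/-- `x ↦ B(x, w) v − B(x, v) w`. -/
noncomputable def skewOp (v w : V) : V →ₗ[A] V :=
  (q.polarBilin.flip w).smulRight v - (q.polarBilin.flip v).smulRight w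

theorem skewOp_apply (v w x : V) : skewOp q v w x = polar q x w • v - polar q x v • w := rfl

/-- The infinitesimal isometry `1 + e X_{v,w}`. -/
noncomputable def infIso (e : A) (he : e * e = 0) (v w : V) : V ≃ₗ[A] V :=
  LinearEquiv.ofLinear (LinearMap.id + e • skewOp q v w) (LinearMap.id - e • skewOp q v w)
    (by ext x; simp [smul_smul, he, smul_sub, smul_add])
    (by ext x; simp [smul_smul, he, smul_sub, smul_add])

theorem infIso_apply (e : A) (he : e * e = 0) (v w x : V) :
    infIso q e he v w x = x + e • skewOp q v w x := rfl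

theorem map_infIso (e : A) (he : e * e = 0) (v w x : V) : q (infIso q e he v w x) = q x := by
  rw [infIso_apply, QuadraticMap.map_add q x, QuadraticMap.map_smul, he, zero_smul, add_zero, polar_smul_right,
    skewOp_apply, polar_sub_right, polar_smul_right, polar_smul_right]
  simp [mul_comm]

theorem infIso_mem_O (e : A) (he : e * e = 0) (v w : V) : infIso q e he v w ∈ QuadGrp.O q :=
  fun x => map_infIso q e he v w x

theorem det_infIso {n : ℕ} (b : Module.Basis (Fin n) A V) (e : A) (he : e * e = 0) (v w : V) :
    LinearEquiv.det (infIso q e he v w) = 1 := by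
  apply Units.ext
  rw [LinearEquiv.coe_det, Units.val_one, ← LinearMap.det_toMatrix b]
  let U : Matrix (Fin n) (Fin 2) A := Matrix.of fun i l => if l = 0 then b.repr v i else b.repr w i
  let W : Matrix (Fin 2) (Fin n) A :=
    Matrix.of fun l j => if l = 0 then e * polar q (b j) w else -(e * polar q (b j) v)
  have hM : LinearMap.toMatrix b b (infIso q e he v w).toLinearMap = 1 + U * W := by
    ext i j
    simp only [LinearMap.toMatrix_apply, LinearEquiv.coe_coe, infIso_apply, skewOp_apply, map_add, map_smul,
      map_sub, Finsupp.add_apply, Finsupp.smul_apply, Finsupp.sub_apply, b.repr_self, smul_eq_mul,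
      Matrix.add_apply, Matrix.mul_apply, Fin.sum_univ_two]
    simp [U, W, Finsupp.single_apply, Matrix.one_apply, eq_comm (a := i)]
    ring
  rw [hM, Matrix.det_one_add_mul_comm]
  have hsum : ∀ (y : V) (c : A) (z : V), ∑ j, c * polar q (b j) y * b.repr z j = c * polar q z y := by
    intro y c z
    conv_rhs => rw [← b.sum_repr z]
    rw [← QuadraticMap.polarBilin_apply_apply, map_sum, LinearMap.sum_apply, Finset.mul_sum]
    exact Finset.sum_congr rfl fun j _ => by simp; ring
  have h00 : (W * U) 0 0 = e * polar q v w := by simp [Matrix.mul_apply, U, W, hsum]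
  have h11 : (W * U) 1 1 = -(e * polar q v w) := by
    simp [Matrix.mul_apply, U, W, hsum, QuadraticMap.polar_comm q w v]
  have h01 : (W * U) 0 1 = e * polar q w w := by simp [Matrix.mul_apply, U, W, hsum]
  have h10 : (W * U) 1 0 = -(e * polar q v v) := by simp [Matrix.mul_apply, U, W, hsum]
  rw [Matrix.det_fin_two]
  simp only [Matrix.add_apply, h00, h01, h10, h11, Matrix.one_apply_eq, Matrix.one_apply_ne (show (0 : Fin 2) ≠ 1 by decide),
    Matrix.one_apply_ne (show (1 : Fin 2) ≠ 0 by decide), zero_add]
  linear_combination (polar q w w * polar q v v - polar q v w * polar q v w) * he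

theorem infIso_mem_SOeven (e : A) (he : e * e = 0) (v w : V) : infIso q e he v w ∈ QuadGrp.SOeven q := by
  refine ⟨infIso_mem_O q e he v w, fun z hz => ?_⟩
  let i : V → CliffordAlgebra q := CliffordAlgebra.ι q
  let s : CliffordAlgebra q := 1 + e • (i v * i w)
  let t : CliffordAlgebra q := 1 - e • (i v * i w)
  have hst : s * t = 1 := by
    simp [s, t, mul_sub, add_mul, smul_sub, smul_add, smul_smul, he]
  have hts : t * s = 1 := by
    simp [s, t, mul_add, sub_mul, smul_sub, smul_add, smul_smul, he]
  let φ : CliffordAlgebra q →ₐ[A] CliffordAlgebra q :=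
    (AlgEquiv.ofAlgHom
      { toFun := fun x => s * x * t
        map_one' := by rw [mul_one, hst]
        map_mul' := fun x y => by
          rw [show s * x * t * (s * y * t) = s * x * (t * s) * (y * t) by simp [mul_assoc], hts]
          simp [mul_assoc]
        map_zero' := by simp
        map_add' := fun x y => by simp [mul_add, add_mul]
        commutes' := fun r => by rw [← Algebra.commutes r s, mul_assoc, hst, mul_one] }
      { toFun := fun x => t * x * s
        map_one' := by rw [mul_one, hts]
        map_mul' := fun x y => by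
          rw [show t * x * s * (t * y * s) = t * x * (s * t) * (y * s) by simp [mul_assoc], hst]
          simp [mul_assoc]
        map_zero' := by simp
        map_add' := fun x y => by simp [mul_add, add_mul]
        commutes' := fun r => by rw [← Algebra.commutes r t, mul_assoc, hts, mul_one] }
      (AlgHom.ext fun x => show s * (t * x * s) * t = x by
        rw [show s * (t * x * s) * t = (s * t) * x * (s * t) by simp [mul_assoc], hst, one_mul, mul_one])
      (AlgHom.ext fun x => show t * (s * x * t) * s = x by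
        rw [show t * (s * x * t) * s = (t * s) * x * (t * s) by simp [mul_assoc], hts, one_mul, mul_one])).toAlgHom
  have hmap : CliffordAlgebra.map (QuadGrp.isometryOfMem q _ (infIso_mem_O q e he v w)) = φ := by
    apply CliffordAlgebra.hom_ext
    ext x
    simp only [LinearMap.comp_apply, AlgHom.toLinearMap_apply, CliffordAlgebra.map_apply_ι,
      QuadGrp.isometryOfMem_apply, infIso_apply, skewOp_apply]
    show CliffordAlgebra.ι q _ = s * i x * t
    have hsw : i v * i w * i x - i x * (i v * i w) = polar q x w • i v - polar q x v • i w := by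
      have h1 : i w * i x = polar q x w • (1 : CliffordAlgebra q) - i x * i w := by
        rw [eq_sub_iff_add_eq, CliffordAlgebra.ι_mul_ι_add_swap, QuadraticMap.polar_comm,
          Algebra.algebraMap_eq_smul_one]
      have h2 : i x * i v = polar q x v • (1 : CliffordAlgebra q) - i v * i x := by
        rw [eq_sub_iff_add_eq, CliffordAlgebra.ι_mul_ι_add_swap, Algebra.algebraMap_eq_smul_one]
      rw [mul_assoc, h1, ← mul_assoc (i x), h2]
      simp [mul_sub, sub_mul, mul_assoc]
    rw [map_add, map_smul, map_sub, map_smul, map_smul, ← hsw]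
    simp only [s, t, mul_sub, add_mul, one_mul, mul_one, smul_mul_assoc, mul_smul_comm, smul_add, smul_smul, he,
      zero_smul, smul_sub, sub_zero, add_zero]
    abel
  rw [hmap]
  show s * (z : CliffordAlgebra q) * t = z
  have hev : e • (i v * i w) ∈ CliffordAlgebra.even q :=
    Submodule.smul_mem _ e (CliffordAlgebra.ι_mul_ι_mem_evenOdd_zero q v w)
  have hc := congrArg Subtype.val
    ((Subalgebra.mem_center_iff.mp hz) (1 + ⟨e • (i v * i w), hev⟩))
  simp only [MulMemClass.coe_mul, AddMemClass.coe_add, OneMemClass.coe_one] at hc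
  rw [show s * (z : CliffordAlgebra q) = z * s from hc, mul_assoc, hst, mul_one]

theorem infIso_mem_SO {n : ℕ} (b : Module.Basis (Fin n) A V) (e : A) (he : e * e = 0) (v w : V) :
    infIso q e he v w ∈ QuadGrp.SO q := by
  rw [QuadGrp.SO]
  split
  · exact infIso_mem_SOeven q e he v w
  · exact ⟨infIso_mem_O q e he v w, MonoidHom.mem_ker.mpr (det_infIso q b e he v w)⟩

end Transvection

section BaseChange

variable {R : Type u} [CommRing R] {n : ℕ} (Q : QuadraticForm R (Fin n → R)) (A : Type u) [CommRing A] [Algebra R A]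

theorem polar_baseChangeForm (x y : Fin n → R) :
    polar (QuadGrp.baseChangeForm A Q) (1 ⊗ₜ[R] x) (1 ⊗ₜ[R] y) = algebraMap R A (polar Q x y) := by
  simp [QuadraticMap.polar, QuadGrp.baseChangeForm, ← tmul_add, QuadGrp.baseChange_tmul,
    Algebra.algebraMap_eq_smul_one, sub_smul]

theorem mem_orth_iff (h : (A ⊗[R] (Fin n → R)) ≃ₗ[A] (A ⊗[R] (Fin n → R))) :
    h ∈ QuadGrp.orth Q A ↔ ∀ x, QuadGrp.baseChangeForm A Q (h x) = QuadGrp.baseChangeForm A Q x :=
  forall_congr' fun _ => (AlgebraTensorModule.rid R A A).injective.eq_iff.symm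

theorem infIso_mem_sorth' (e : A) (he : e * e = 0) (v w : A ⊗[R] (Fin n → R)) :
    infIso (QuadGrp.baseChangeForm A Q) e he v w ∈ QuadGrp.sorth' Q A :=
  ⟨(mem_orth_iff Q A _).mpr (map_infIso _ e he v w),
    MonoidHom.mem_ker.mpr (det_infIso _ ((Pi.basisFun R (Fin n)).baseChange A) e he v w)⟩

theorem infIso_mem_orth (e : A) (he : e * e = 0) (v w : A ⊗[R] (Fin n → R)) :
    infIso (QuadGrp.baseChangeForm A Q) e he v w ∈ QuadGrp.orth Q A :=
  (infIso_mem_sorth' Q A e he v w).1

theorem infIso_mem_sorth (e : A) (he : e * e = 0) (v w : A ⊗[R] (Fin n → R)) :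
    infIso (QuadGrp.baseChangeForm A Q) e he v w ∈ QuadGrp.sorth Q A :=
  infIso_mem_SO _ ((Pi.basisFun R (Fin n)).baseChange A) e he v w

/-- An isometry commuting with all infinitesimal isometries fixes each `X_{v,w}`. -/
theorem skewOp_eq (g : (Fin n → R) ≃ₗ[R] (Fin n → R)) (hg : g ∈ QuadGrp.O Q)
    (H : ∀ v w : DualNumber R ⊗[R] (Fin n → R),
      g.baseChange R (DualNumber R) (Fin n → R) (Fin n → R) *
          infIso (QuadGrp.baseChangeForm (DualNumber R) Q) DualNumber.eps DualNumber.eps_mul_eps v w =
        infIso (QuadGrp.baseChangeForm (DualNumber R) Q) DualNumber.eps DualNumber.eps_mul_eps v w *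
          g.baseChange R (DualNumber R) (Fin n → R) (Fin n → R))
    (v w : Fin n → R) (x : Fin n → R) : skewOp Q (g v) (g w) x = skewOp Q v w x := by
  obtain ⟨y, rfl⟩ := g.surjective x
  have hP : ∀ a b, polar Q (g a) (g b) = polar Q a b := fun a b => by
    simp [QuadraticMap.polar, ← map_add, (QuadGrp.mem_O Q g).mp hg]
  have hbase : ∀ a : Fin n → R, skewOp (QuadGrp.baseChangeForm (DualNumber R) Q) (1 ⊗ₜ v) (1 ⊗ₜ w) (1 ⊗ₜ a) =
      1 ⊗ₜ[R] skewOp Q v w a := fun a => by
    simp [skewOp_apply, polar_baseChangeForm, algebraMap_smul, tmul_sub, tmul_smul]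
  have h := LinearEquiv.congr_fun (H (1 ⊗ₜ v) (1 ⊗ₜ w)) (1 ⊗ₜ y)
  simp only [LinearEquiv.mul_apply, infIso_apply, LinearEquiv.baseChange_tmul, map_add, map_smul, hbase,
    add_right_inj, TensorProduct.smul_tmul', smul_eq_mul, mul_one] at h
  let snd : DualNumber R ⊗[R] (Fin n → R) →ₗ[R] (Fin n → R) :=
    (TensorProduct.lid R (Fin n → R)).toLinearMap ∘ₗ LinearMap.rTensor _ (TrivSqZeroExt.sndHom R R)
  have h' := congrArg snd h
  simp [snd, LinearMap.rTensor_tmul] at h'
  rw [← h']
  simp [skewOp_apply, hP]

/-- An upper triangular matrix of `Q`. -/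
def upMat : Matrix (Fin n) (Fin n) R := Matrix.of fun i j =>
  if i = j then Q (Pi.single i 1) else if i < j then polar Q (Pi.single i 1) (Pi.single j 1) else 0

theorem upMat_add_transpose (i j : Fin n) :
    (upMat Q + (upMat Q)ᵀ) i j = polar Q (Pi.single i 1) (Pi.single j 1) := by
  rcases lt_trichotomy i j with h | rfl | h
  · simp [upMat, h, h.ne, h.ne', h.not_gt]
  · simp [upMat, QuadraticMap.polar_self, two_mul]
  · simp [upMat, h, h.ne, h.ne', h.not_gt, QuadraticMap.polar_comm]

theorem span_adjugate_upMat (hn : 0 < n) (hQ : QuadGrp.IsNondeg (Pi.basisFun R (Fin n)) (LinearEquiv.refl R R) Q) :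
    Ideal.span (Set.range fun p : Fin n × Fin n => (upMat Q + (upMat Q)ᵀ).adjugate p.1 p.2) = ⊤ := by
  refine span_adjugate_eq_top _ hn (fun he => ?_) (fun ho => ?_)
  · rw [← Matrix.isUnit_iff_isUnit_det]
    let e := (LinearEquiv.ofBijective _ (hQ.1 he)).trans (Pi.basisFun R (Fin n)).toDualEquiv.symm
    have : upMat Q + (upMat Q)ᵀ = (LinearMap.toMatrix' e.toLinearMap)ᵀ := by
      ext i j
      rw [upMat_add_transpose, Matrix.transpose_apply, LinearMap.toMatrix'_apply]
      have h1 : (Pi.basisFun R (Fin n)).toDualEquiv (e (Pi.single i 1)) = Q.polarBilin (Pi.single i 1) := by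
        simp [e]
      have h2 := LinearMap.congr_fun h1 (Pi.single j 1)
      rw [QuadraticMap.polarBilin_apply_apply, ← Pi.basisFun_apply, ← Pi.basisFun_apply,
        Module.Basis.toDualEquiv_apply, Module.Basis.toDual_apply_left, Pi.basisFun_repr] at h2
      simp only [← Pi.basisFun_apply]
      rw [← h2]
      simp
    rw [this, Matrix.isUnit_transpose]
    exact (Matrix.isUnit_iff_isUnit_det _).mpr (by
      rw [LinearMap.det_toMatrix']; exact LinearEquiv.isUnit_det' e)
  · have h := hQ.2 ho
    rw [QuadGrp.IsSemiregular, QuadGrp.halfDisc] at h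
    rw [hU]
    refine Eq.mp (congrArg IsUnit ?_) h
    congr 1
    funext z
    induction z using Sym2.ind with
    | h i j =>
      rcases lt_trichotomy i j with hh | rfl | hh
      · simp [QuadGrp.coeffs_mk, uCoeff, upMat, hh, hh.ne, hh.ne', hh.not_gt]
      · simp [QuadGrp.coeffs_mk, uCoeff, upMat]
      · simp [QuadGrp.coeffs_mk, uCoeff, upMat, hh, hh.ne, hh.ne', hh.not_gt, QuadraticMap.polar_comm]

/-- The centre: an isometry commuting with all infinitesimal isometries is a scalar of square one. -/
theorem exists_scalar (hn : 3 ≤ n) (hQ : QuadGrp.IsNondeg (Pi.basisFun R (Fin n)) (LinearEquiv.refl R R) Q)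
    (g : (Fin n → R) ≃ₗ[R] (Fin n → R)) (hg : g ∈ QuadGrp.O Q)
    (H : ∀ v w : DualNumber R ⊗[R] (Fin n → R),
      g.baseChange R (DualNumber R) (Fin n → R) (Fin n → R) *
          infIso (QuadGrp.baseChangeForm (DualNumber R) Q) DualNumber.eps DualNumber.eps_mul_eps v w =
        infIso (QuadGrp.baseChangeForm (DualNumber R) Q) DualNumber.eps DualNumber.eps_mul_eps v w *
          g.baseChange R (DualNumber R) (Fin n → R) (Fin n → R)) :
    ∃ c : R, c * c = 1 ∧ ∀ v, g v = c • v := by
  have hX := skewOp_eq Q g hg H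
  have hω : ∀ v w, ∀ a b, g v a * g w b - g w a * g v b = v a * w b - w a * v b := by
    intro v w
    let ω : Matrix (Fin n) (Fin n) R :=
      Matrix.of fun a b => g v a * g w b - g w a * g v b - (v a * w b - w a * v b)
    have h0 : ω = 0 := by
      refine alt_eq_zero (span_adjugate_upMat Q (by omega) hQ) (fun i => by simp [ω, mul_comm])
        (fun i j => by simp [ω]; ring) fun a => ?_
      funext c
      have hc := congrFun (hX v w (Pi.single c 1)) a
      simp only [skewOp_apply, Pi.sub_apply, Pi.smul_apply, smul_eq_mul] at hc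
      have hsum : ∀ y : Fin n → R, ∑ b, y b * (upMat Q + (upMat Q)ᵀ) b c = polar Q (Pi.single c 1) y := by
        intro y
        conv_rhs => rw [← (Pi.basisFun R (Fin n)).sum_repr y]
        rw [← QuadraticMap.polarBilin_apply_apply, map_sum]
        refine Finset.sum_congr rfl fun b _ => ?_
        rw [upMat_add_transpose]
        simp [QuadraticMap.polar_comm]
      simp only [Matrix.vecMul, dotProduct, ω, Matrix.of_apply, sub_mul, mul_assoc, Finset.sum_sub_distrib,
        ← Finset.mul_sum, hsum, Pi.zero_apply]
      linear_combination hc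
    intro a b
    exact sub_eq_zero.mp (congrFun (congrFun h0 a) b)
  let G : Fin n → Fin n → R := fun a i => g (Pi.single i 1) a
  have hδ : ∀ i k a b, G a i * G b k - G a k * G b i =
      (if a = i then (1 : R) else 0) * (if b = k then 1 else 0) -
        (if a = k then (1 : R) else 0) * (if b = i then 1 else 0) := fun i k a b => by
    simpa [G, Pi.single_apply] using hω (Pi.single i 1) (Pi.single k 1) a b
  have hthird : ∀ i j : Fin n, ∃ k, k ≠ i ∧ k ≠ j := by
    intro i j
    obtain ⟨k, hk⟩ := Finset.exists_mem_notMem_of_card_lt_card (s := ({i, j} : Finset (Fin n))) (t := Finset.univ)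
      (lt_of_le_of_lt Finset.card_le_two (by simp; omega))
    simp at hk
    exact ⟨k, hk.1, hk.2⟩
  have hoff : ∀ i j, j ≠ i → G j i = 0 := by
    intro i j hji
    obtain ⟨k, hki, hkj⟩ := hthird i j
    have h1 := hδ i k i k
    have h2 := hδ i k j k
    have h3 := hδ i k j i
    simp [hki, Ne.symm hki, hji, Ne.symm hkj] at h1 h2 h3
    linear_combination -(G j i) * h1 + (G i i) * h2 - (G k i) * h3
  have hdiag : ∀ i k, i ≠ k → G i i * G k k = 1 := by
    intro i k hik
    have h1 := hδ i k i k
    simp [hik, Ne.symm hik, hoff k i hik] at h1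
    exact h1
  obtain ⟨k0, hk0, -⟩ := hthird ⟨0, by omega⟩ ⟨0, by omega⟩
  set i0 : Fin n := ⟨0, by omega⟩
  set c := G i0 i0
  have hall : ∀ i, G i i = c := by
    intro i
    obtain ⟨k, hki, hk⟩ := hthird i i0
    linear_combination (G i i) * (-(hdiag i0 k hk.symm)) + c * hdiag i k hki.symm
  refine ⟨c, ?_, fun v => ?_⟩
  · have := hdiag k0 i0 hk0
    rwa [hall] at this
  · have key : g.toLinearMap = c • LinearMap.id := by
      refine (Pi.basisFun R (Fin n)).ext fun i => ?_
      funext a
      simp only [Pi.basisFun_apply, LinearEquiv.coe_coe, LinearMap.smul_apply, LinearMap.id_apply,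
        Pi.smul_apply, smul_eq_mul, Pi.single_apply]
      by_cases h : a = i
      · subst h; simpa [G] using hall a
      · rw [if_neg h, mul_zero]; exact hoff i a h
    exact LinearMap.congr_fun key v

theorem baseChange_comm_of_scalar (g : (Fin n → R) ≃ₗ[R] (Fin n → R)) (c : R) (hc : ∀ v, g v = c • v)
    (h : (A ⊗[R] (Fin n → R)) ≃ₗ[A] (A ⊗[R] (Fin n → R))) :
    g.baseChange R A (Fin n → R) (Fin n → R) * h = h * g.baseChange R A (Fin n → R) (Fin n → R) := by
  have hg : ∀ x, g.baseChange R A (Fin n → R) (Fin n → R) x = algebraMap R A c • x := by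
    intro x
    induction x using TensorProduct.induction_on with
    | zero => simp
    | tmul a m => rw [LinearEquiv.baseChange_tmul, hc, tmul_smul, algebraMap_smul]
    | add x y hx hy => rw [map_add, hx, hy, smul_add]
  ext x
  simp [hg]
  exact (h.toLinearMap.map_smul_of_tower c x).symm

end BaseChange

end QuadGrpLib
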