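import Groth.Prelude.Def_QuadGrp
import Mathlib.LinearAlgebra.Matrix.ToLinearEquiv
import Mathlib.LinearAlgebra.Matrix.SchurComplement
import Mathlib.FieldTheory.IsAlgClosed.AlgebraicClosure
import Mathlib.FieldTheory.IsAlgClosed.Basic
import Mathlib.Tactic

/-! Adjugate of a polar matrix and the half-discriminant. -/

namespace QuadGrpLib

open Matrix Finset

universe u

variable {R : Type u} [CommRing R] {n : ℕ}

theorem smul_adjugate_eq {P : Matrix (Fin n) (Fin n) R} {y : Fin n → R} (hy : y ᵥ* P = 0)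
    (k j i : Fin n) : y k * P.adjugate j i = y i * P.adjugate j k := by
  set L := (1 : Matrix (Fin n) (Fin n) R).updateRow k y with hL
  have hLP : L * P = P.updateRow k 0 := by
    ext a b
    by_cases h : a = k
    · subst h; simp [hL, Matrix.mul_apply]; exact congrFun hy b
    · simp [hL, Matrix.mul_apply, Matrix.updateRow_ne h, Matrix.one_apply]
  have hdet : L.det = y k := by
    have := Matrix.det_updateRow_sum (1 : Matrix (Fin n) (Fin n) R) k y
    rw [Matrix.det_one, smul_eq_mul, mul_one] at this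
    rw [← this, hL]
    congr 2
    funext b
    simp [Finset.sum_apply, Matrix.one_apply]
  have key : y k • P.adjugate = (P.updateRow k 0).adjugate * L := by
    rw [← hLP, Matrix.adjugate_mul_distrib, Matrix.mul_assoc, Matrix.adjugate_mul, hdet, Matrix.mul_smul,
      Matrix.mul_one]
  have h := congrFun (congrFun key j) i
  rw [Matrix.smul_apply, smul_eq_mul, Matrix.mul_apply, Finset.sum_eq_single k] at h
  · rw [h, Matrix.adjugate_apply, Matrix.updateRow_idem, ← Matrix.adjugate_apply, hL, Matrix.updateRow_self]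
    ring
  · intro l _ hl
    rw [Matrix.adjugate_apply, Matrix.det_eq_zero_of_row_eq_zero k, zero_mul]
    intro b
    rw [Matrix.updateRow_ne (Ne.symm hl), Matrix.updateRow_self]
    rfl
  · simp

/-- An alternating matrix killed by `P` vanishes when the cofactors of `P` generate the unit ideal. -/
theorem alt_eq_zero {P ω : Matrix (Fin n) (Fin n) R}
    (hI : Ideal.span (Set.range fun p : Fin n × Fin n => P.adjugate p.1 p.2) = ⊤)
    (hd : ∀ i, ω i i = 0) (hs : ∀ i j, ω i j = -ω j i) (hω : ∀ i, ω i ᵥ* P = 0) : ω = 0 := by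
  have h1 : ∀ i k j, ω i k * P.adjugate j i = 0 := fun i k j => by
    rw [smul_adjugate_eq (hω i) k j i, hd, zero_mul]
  ext a b
  have h2 : ∀ j i, ω a b * P.adjugate j i ^ 2 = 0 := fun j i => by
    rw [sq, ← mul_assoc, smul_adjugate_eq (hω a) b j i, hs a i, neg_mul, neg_mul, mul_right_comm,
      h1 i a j, zero_mul, neg_zero]
  have hI2 := Ideal.span_pow_eq_top _ hI 2
  have h3 : ∀ x ∈ Ideal.span ((fun x => x ^ 2) '' Set.range fun p : Fin n × Fin n => P.adjugate p.1 p.2),
      ω a b * x = 0 := by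
    intro x hx
    induction hx using Submodule.span_induction with
    | mem x hx => obtain ⟨_, ⟨p, rfl⟩, rfl⟩ := hx; exact h2 _ _
    | zero => simp
    | add x y _ _ hx hy => rw [mul_add, hx, hy, add_zero]
    | smul r x _ hx => rw [smul_eq_mul, mul_left_comm, hx, mul_zero]
  simpa using h3 1 (hI2 ▸ Submodule.mem_top)

/-- `det (U + Uᵀ)` vanishes in characteristic two and odd size. -/
theorem det_add_transpose_eq_zero [CharP R 2] (hn : Odd n) (U : Matrix (Fin n) (Fin n) R) :
    (U + Uᵀ).det = 0 := by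
  set P := U + Uᵀ with hP
  have hs : ∀ i j, P i j = P j i := fun i j => by simp [hP, add_comm]
  have hd : ∀ i, P i i = 0 := fun i => by simp [hP, CharTwo.add_self_eq_zero]
  rw [Matrix.det_apply']
  refine Finset.sum_involution (fun σ _ => σ⁻¹) (fun σ _ => ?_) (fun σ _ hne h => hne ?_)
    (fun σ _ => Finset.mem_univ _) (fun σ _ => inv_inv σ)
  · have e : ∏ i, P (σ⁻¹ i) i = ∏ i, P (σ i) i := by
      rw [← Equiv.prod_comp σ (fun i => P (σ⁻¹ i) i)]
      exact Finset.prod_congr rfl fun i _ => by simp [hs]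
    rw [Equiv.Perm.sign_inv, e, CharTwo.add_self_eq_zero]
  · obtain ⟨i, hi⟩ : ∃ i, σ i = i := by
      by_contra hne'
      push Not at hne'
      have hsq : σ ^ (2 ^ 1) = 1 := by rw [pow_one, sq, mul_eq_one_iff_eq_inv]; exact h.symm
      obtain ⟨i, hi⟩ := Equiv.Perm.exists_fixed_point_of_prime (p := 2) (n := 1) (σ := σ)
        (by rw [Fintype.card_fin]; exact Nat.two_dvd_ne_zero.mpr (Nat.odd_iff.mp hn)) hsq
      exact hne' i hi
    rw [Finset.prod_eq_zero (Finset.mem_univ i) (by rw [hi, hd]), mul_zero]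

/-- Coefficients of the quadratic form `x ↦ x U xᵀ`. -/
def uCoeff (U : Matrix (Fin n) (Fin n) R) : Sym2 (Fin n) → R :=
  Sym2.lift ⟨fun i j => if i = j then U i i else U i j + U j i, fun i j => by
    by_cases h : i = j
    · subst h; rfl
    · simp [h, Ne.symm h, add_comm]⟩

/-- The half-discriminant of `x ↦ x U xᵀ`. -/
noncomputable def hU (U : Matrix (Fin n) (Fin n) R) : R :=
  MvPolynomial.eval₂ (Int.castRingHom R) (uCoeff U) (QuadGrp.halfDiscUniv n)

theorem map_hU {S : Type*} [CommRing S] (f : R →+* S) (U : Matrix (Fin n) (Fin n) R) :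
    f (hU U) = hU (U.map f) := by
  rw [hU, hU, MvPolynomial.eval₂_comp_left f]
  congr 1
  · exact RingHom.ext_int _ _
  · funext z
    induction z using Sym2.ind with
    | h i j => by_cases h : i = j <;> simp [uCoeff, h]

theorem two_mul_halfDiscUniv (hn : Odd n) : 2 * QuadGrp.halfDiscUniv n = QuadGrp.discUniv n := by
  classical
  let U : Matrix (Fin n) (Fin n) (MvPolynomial (Sym2 (Fin n)) (ZMod 2)) :=
    Matrix.of fun i j => if i ≤ j then MvPolynomial.X (Sym2.mk i j) else 0
  have h : MvPolynomial.map (Int.castRingHom (ZMod 2)) (QuadGrp.discUniv n) = 0 := by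
    rw [QuadGrp.discUniv, RingHom.map_det, RingHom.mapMatrix_apply, ← det_add_transpose_eq_zero hn U]
    congr 1
    ext i j
    rcases lt_trichotomy i j with h | rfl | h
    · simp [QuadGrp.univPolarMat, U, h.ne, h.le, h.not_ge]
    · simp [QuadGrp.univPolarMat, U, two_mul]
    · simp [QuadGrp.univPolarMat, U, h.ne', h.le, h.not_ge, Sym2.eq_swap]
  ext s
  have h2 : (2 : ℤ) ∣ MvPolynomial.coeff s (QuadGrp.discUniv n) := by
    have := congrArg (MvPolynomial.coeff s) h
    rw [MvPolynomial.coeff_map, MvPolynomial.coeff_zero, eq_intCast, ZMod.intCast_zmod_eq_zero_iff_dvd] at this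
    exact this
  rw [show (2 : MvPolynomial (Sym2 (Fin n)) ℤ) = MvPolynomial.C 2 by simp [map_ofNat],
    MvPolynomial.coeff_C_mul, QuadGrp.coeff_halfDiscUniv, Int.mul_ediv_cancel' h2]

theorem two_mul_hU (hn : Odd n) (U : Matrix (Fin n) (Fin n) R) : 2 * hU U = (U + Uᵀ).det := by
  have := congrArg (MvPolynomial.eval₂Hom (Int.castRingHom R) (uCoeff U)) (two_mul_halfDiscUniv hn)
  rw [map_mul, map_ofNat, QuadGrp.discUniv, RingHom.map_det] at this
  refine this.trans (congrArg Matrix.det ?_)
  ext i j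
  by_cases h : i = j
  · subst h; simp [QuadGrp.univPolarMat, uCoeff, two_mul]
  · simp [QuadGrp.univPolarMat, uCoeff, h]

/-- A lift to a ring without `2`-torsion. -/
noncomputable def liftHom (k : Type*) [CommRing k] : MvPolynomial k ℤ →+* k :=
  MvPolynomial.eval₂Hom (Int.castRingHom k) id

theorem hU_congr {k : Type*} [CommRing k] (hn : Odd n) (U L : Matrix (Fin n) (Fin n) k) :
    hU (L * U * Lᵀ) = L.det ^ 2 * hU U := by
  let lift : Matrix (Fin n) (Fin n) k → Matrix (Fin n) (Fin n) (MvPolynomial k ℤ) := fun M => M.map MvPolynomial.X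
  have hlift : ∀ M, (lift M).map (liftHom k) = M := fun M => by ext; simp [lift, liftHom]
  have key : hU (lift L * lift U * (lift L)ᵀ) = (lift L).det ^ 2 * hU (lift U) := by
    refine mul_left_cancel₀ (two_ne_zero : (2 : MvPolynomial k ℤ) ≠ 0) ?_
    rw [two_mul_hU hn, mul_left_comm, two_mul_hU hn, sq]
    rw [show lift L * lift U * (lift L)ᵀ + (lift L * lift U * (lift L)ᵀ)ᵀ =
        lift L * (lift U + (lift U)ᵀ) * (lift L)ᵀ by
      simp [Matrix.transpose_mul, Matrix.mul_add, Matrix.add_mul, Matrix.mul_assoc]]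
    rw [Matrix.det_mul, Matrix.det_mul, Matrix.det_transpose]
    ring
  have h := congrArg (liftHom k) key
  rw [map_mul, map_pow, map_hU, map_hU, RingHom.map_det, RingHom.mapMatrix_apply, hlift, hlift,
    Matrix.map_mul, Matrix.map_mul, hlift, hlift, ← Matrix.transpose_map, hlift] at h
  exact h

theorem hU_eq_zero_of_row {k : Type*} [CommRing k] (hn : Odd n) (U : Matrix (Fin n) (Fin n) k)
    (i : Fin n) (hd : U i i = 0) (ho : ∀ j, U i j + U j i = 0) : hU U = 0 := by
  classical
  let V : Matrix (Fin n) (Fin n) (MvPolynomial k ℤ) := Matrix.of fun a b =>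
    if a = i ∨ b = i then 0 else MvPolynomial.X (U a b)
  have hV : hU V = 0 := by
    refine mul_left_cancel₀ (two_ne_zero : (2 : MvPolynomial k ℤ) ≠ 0) ?_
    rw [two_mul_hU hn, mul_zero]
    exact Matrix.det_eq_zero_of_row_eq_zero i fun j => by simp [V]
  have h := congrArg (liftHom k) hV
  rw [map_hU, map_zero] at h
  rw [← h, hU, hU]
  congr 1
  funext z
  induction z using Sym2.ind with
  | h a b =>
    by_cases hab : a = b
    · subst hab
      by_cases ha : a = i
      · subst ha; simp [uCoeff, V, hd]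
      · simp [uCoeff, V, ha, liftHom]
    · by_cases ha : a = i
      · subst ha; simp [uCoeff, V, hab, ho]
      · by_cases hb : b = i
        · subst hb; simp [uCoeff, V, hab, ha]; rw [add_comm]; exact ho a
        · simp [uCoeff, V, hab, ha, hb, liftHom]

/-- Over a field of characteristic two a semiregular form has a non-zero cofactor. -/
theorem exists_adjugate_ne_zero {k : Type*} [Field k] [IsAlgClosed k] [CharP k 2] (hn : Odd n)
    (U : Matrix (Fin n) (Fin n) k) (hh : hU U ≠ 0) : ∃ j i, (U + Uᵀ).adjugate j i ≠ 0 := by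
  classical
  by_contra hc
  push Not at hc
  set P := U + Uᵀ with hP
  obtain ⟨y, hy0, hy⟩ := Matrix.exists_vecMul_eq_zero_iff.mpr (det_add_transpose_eq_zero hn U : P.det = 0)
  obtain ⟨i, hi⟩ := Function.ne_iff.mp hy0
  have hspan : ∃ j, (Pi.single j 1 : Fin n → k) ∉
      Submodule.span k (Set.range fun b : {b // b ≠ i} => P b.1) := by
    by_contra hall
    push Not at hall
    have htop : Submodule.span k (Set.range fun b : {b // b ≠ i} => P b.1) = ⊤ := by
      rw [eq_top_iff, ← (Pi.basisFun k (Fin n)).span_eq, Submodule.span_le]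
      rintro _ ⟨j, rfl⟩
      simpa using hall j
    have := finrank_range_le_card (R := k) (fun b : {b // b ≠ i} => P b.1)
    rw [Set.finrank, htop, finrank_top, Module.finrank_fin_fun] at this
    rw [Fintype.card_subtype_compl, Fintype.card_subtype_eq, Fintype.card_fin] at this
    have := i.isLt
    omega
  obtain ⟨j, hj⟩ := hspan
  obtain ⟨z, hz0, hz⟩ := Matrix.exists_vecMul_eq_zero_iff.mpr
    (show (P.updateRow i (Pi.single j 1)).det = 0 by rw [← Matrix.adjugate_apply]; exact hc j i)
  have hz' : z i • (Pi.single j 1 : Fin n → k) + ∑ b ∈ Finset.univ.erase i, z b • P b = 0 := by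
    have : ∑ b, z b • (P.updateRow i (Pi.single j 1)) b = 0 := by rw [← Matrix.vecMul_eq_sum]; exact hz
    rw [← Finset.add_sum_erase _ _ (Finset.mem_univ i), Matrix.updateRow_self,
      Finset.sum_congr rfl fun b hb => by rw [Matrix.updateRow_ne (Finset.ne_of_mem_erase hb)]] at this
    exact this
  have hzi : z i = 0 := by
    by_contra hzi
    refine hj ?_
    rw [← inv_smul_smul₀ hzi (Pi.single j 1 : Fin n → k), eq_neg_of_add_eq_zero_left hz']
    refine Submodule.smul_mem _ _ (Submodule.neg_mem _ (Submodule.sum_mem _ fun b hb => ?_))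
    exact Submodule.smul_mem _ _ (Submodule.subset_span ⟨⟨b, Finset.ne_of_mem_erase hb⟩, rfl⟩)
  have hzP : z ᵥ* P = 0 := by
    rw [Matrix.vecMul_eq_sum, ← Finset.add_sum_erase _ _ (Finset.mem_univ i), hzi, zero_smul, zero_add]
    rwa [hzi, zero_smul, zero_add] at hz'
  let q : (Fin n → k) → k := fun w => w ⬝ᵥ (U *ᵥ w)
  obtain ⟨s, hs⟩ := IsAlgClosed.exists_pow_nat_eq (q z) (by norm_num : 0 < 2)
  obtain ⟨t, ht⟩ := IsAlgClosed.exists_pow_nat_eq (q y) (by norm_num : 0 < 2)
  obtain ⟨w, hw0, hwP, hwq⟩ : ∃ w : Fin n → k, w ≠ 0 ∧ w ᵥ* P = 0 ∧ q w = 0 := by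
    by_cases hz2 : q z = 0
    · exact ⟨z, hz0, hzP, hz2⟩
    · refine ⟨s • y + t • z, fun h => ?_, ?_, ?_⟩
      · have := congrFun h i
        simp [hzi] at this
        rcases this with h' | h'
        · subst h'; exact hz2 (by rw [← hs]; ring)
        · exact hi h'
      · rw [Matrix.add_vecMul, Matrix.smul_vecMul, Matrix.smul_vecMul, hy, hzP, smul_zero, smul_zero, add_zero]
      · have hyz : y ⬝ᵥ (U *ᵥ z) + z ⬝ᵥ (U *ᵥ y) = 0 := by
          have : (y ᵥ* P) ⬝ᵥ z = 0 := by rw [hy, zero_dotProduct]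
          rw [← Matrix.dotProduct_mulVec, hP, Matrix.add_mulVec, dotProduct_add] at this
          rw [← this, Matrix.mulVec_transpose, dotProduct_comm y (z ᵥ* U), ← Matrix.dotProduct_mulVec z U y]
        calc q (s • y + t • z) = s ^ 2 * q y + t ^ 2 * q z + s * t * (y ⬝ᵥ (U *ᵥ z) + z ⬝ᵥ (U *ᵥ y)) := by
              simp only [q, Matrix.mulVec_add, Matrix.mulVec_smul, dotProduct_add, add_dotProduct,
                dotProduct_smul, smul_dotProduct, smul_eq_mul]
              ring
          _ = 0 := by rw [hyz, hs, ht, mul_zero, add_zero, mul_comm (q y), CharTwo.add_self_eq_zero]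
  obtain ⟨a, ha⟩ := Function.ne_iff.mp hw0
  let L := (1 : Matrix (Fin n) (Fin n) k).updateRow a w
  have hdet : L.det = w a := by
    have := Matrix.det_updateRow_sum (1 : Matrix (Fin n) (Fin n) k) a w
    rw [Matrix.det_one, smul_eq_mul, mul_one] at this
    rw [← this]
    show ((1 : Matrix (Fin n) (Fin n) k).updateRow a w).det = _
    congr 2
    funext b
    simp [Finset.sum_apply, Matrix.one_apply]
  have hz1 : hU (L * U * Lᵀ) = 0 := by
    refine hU_eq_zero_of_row hn _ a ?_ fun j => ?_
    · have : (L * U * Lᵀ) a a = q w := by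
        simp only [q, L, Matrix.mul_apply, Matrix.transpose_apply, Matrix.updateRow_self, dotProduct,
          Matrix.mulVec, Finset.mul_sum, Finset.sum_mul]
        rw [Finset.sum_comm]
        exact Finset.sum_congr rfl fun _ _ => Finset.sum_congr rfl fun _ _ => by ring
      rw [this, hwq]
    · have : (L * U * Lᵀ) a j + (L * U * Lᵀ) j a = (L * P * Lᵀ) a j := by
        rw [hP, Matrix.mul_add, Matrix.add_mul, Matrix.add_apply]
        congr 1
        rw [show L * Uᵀ * Lᵀ = (L * U * Lᵀ)ᵀ by simp [Matrix.transpose_mul, Matrix.mul_assoc],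
          Matrix.transpose_apply]
      rw [this, Matrix.mul_apply]
      refine Finset.sum_eq_zero fun b _ => ?_
      have hb : (L * P) a b = (w ᵥ* P) b := by simp [L, Matrix.mul_apply, Matrix.vecMul, dotProduct]
      rw [hb, hwP, Pi.zero_apply, zero_mul]
  rw [hU_congr hn, hdet] at hz1
  exact hh ((mul_eq_zero.mp hz1).resolve_left (pow_ne_zero 2 ha))

/-- The cofactors of the polar matrix of a non-degenerate form generate the unit ideal. -/
theorem span_adjugate_eq_top (U : Matrix (Fin n) (Fin n) R) (hpos : 0 < n)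
    (he : Even n → IsUnit (U + Uᵀ).det) (ho : Odd n → IsUnit (hU U)) :
    Ideal.span (Set.range fun p : Fin n × Fin n => (U + Uᵀ).adjugate p.1 p.2) = ⊤ := by
  by_contra hne
  obtain ⟨m, hm, hle⟩ := Ideal.exists_le_maximal _ hne
  have hadj : ∀ j i, (U + Uᵀ).adjugate j i ∈ m := fun j i => hle (Ideal.subset_span ⟨(j, i), rfl⟩)
  have hdet : (U + Uᵀ).det ∈ m := by
    have h := congrFun (congrFun (Matrix.mul_adjugate (U + Uᵀ)) ⟨0, hpos⟩) ⟨0, hpos⟩
    rw [Matrix.smul_apply, Matrix.one_apply_eq, smul_eq_mul, mul_one, Matrix.mul_apply] at h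
    rw [← h]
    exact Ideal.sum_mem _ fun l _ => Ideal.mul_mem_left _ _ (hadj _ _)
  rcases Nat.even_or_odd n with hev | hodd
  · exact hm.ne_top (Ideal.eq_top_of_isUnit_mem _ hdet (he hev))
  · letI := Ideal.Quotient.field m
    let k := AlgebraicClosure (R ⧸ m)
    let f : R →+* k := (algebraMap (R ⧸ m) k).comp (Ideal.Quotient.mk m)
    have hf : ∀ x ∈ m, f x = 0 := fun x hx => by
      simp [f, Ideal.Quotient.eq_zero_iff_mem.mpr hx]
    have hu : hU (U.map f) ≠ 0 := by rw [← map_hU]; exact ((ho hodd).map f).ne_zero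
    have h2 : (2 : k) = 0 := by
      have := congrArg f (two_mul_hU hodd U)
      rw [map_mul, map_ofNat, hf _ hdet, map_hU] at this
      exact (mul_eq_zero.mp this).resolve_right hu
    haveI : CharP k 2 := CharTwo.of_one_ne_zero_of_two_eq_zero one_ne_zero h2
    obtain ⟨j, i, hji⟩ := exists_adjugate_ne_zero hodd (U.map f) hu
    refine hji ?_
    rw [← Matrix.transpose_map, ← Matrix.map_add _ (map_add f), ← RingHom.mapMatrix_apply,
      ← RingHom.map_adjugate]
    exact hf _ (hadj j i)

end QuadGrpLib
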