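import Groth.Agent.QuadGrpL.Alt
import Mathlib.LinearAlgebra.Matrix.Basis
import Mathlib.Tactic

/-! Coefficients of a quadratic form in a basis through a bilinear lift. -/

namespace QuadGrpLib

open Matrix Finset

universe u v

variable {R : Type u} [CommRing R] {M : Type v} [AddCommGroup M] [Module R M] {n : ℕ}

/-- The matrix of a chosen bilinear lift of `Q` in the basis `b`. -/
noncomputable def liftMat (b : Module.Basis (Fin n) R M) (Q : QuadraticForm R M) : Matrix (Fin n) (Fin n) R :=
  haveI := Module.Free.of_basis b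
  Matrix.of fun i j => QuadGrp.bilinLift Q (b i) (b j)

theorem coeffs_eq_uCoeff (b : Module.Basis (Fin n) R M) (Q : QuadraticForm R M)
    (B : LinearMap.BilinMap R M R) (hB : B.toQuadraticMap = Q) :
    QuadGrp.coeffs b (LinearEquiv.refl R R) Q = uCoeff (Matrix.of fun i j => B (b i) (b j)) := by
  subst hB
  funext z
  induction z using Sym2.ind with
  | h i j =>
    by_cases h : i = j
    · subst h; simp [QuadGrp.coeffs_mk, uCoeff]
    · rw [QuadGrp.coeffs_mk, if_neg h]
      simp [uCoeff, h, LinearMap.BilinMap.polar_toQuadraticMap]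

theorem halfDisc_eq_hU (b : Module.Basis (Fin n) R M) (Q : QuadraticForm R M)
    (B : LinearMap.BilinMap R M R) (hB : B.toQuadraticMap = Q) :
    QuadGrp.halfDisc b (LinearEquiv.refl R R) Q = hU (Matrix.of fun i j => B (b i) (b j)) := by
  rw [QuadGrp.halfDisc, coeffs_eq_uCoeff b Q B hB, hU]

theorem exists_lift (b : Module.Basis (Fin n) R M) (Q : QuadraticForm R M) :
    ∃ B : LinearMap.BilinMap R M R, B.toQuadraticMap = Q := by
  haveI := Module.Free.of_basis b
  exact LinearMap.BilinMap.toQuadraticMap_surjective Q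

theorem bilin_matrix_comp (b : Module.Basis (Fin n) R M) (B : LinearMap.BilinMap R M R) (g : M →ₗ[R] M) :
    (Matrix.of fun i j => B (g (b i)) (g (b j))) =
      (LinearMap.toMatrix b b g)ᵀ * (Matrix.of fun i j => B (b i) (b j)) *
        ((LinearMap.toMatrix b b g)ᵀ)ᵀ := by
  rw [Matrix.transpose_transpose]
  ext i j
  simp only [Matrix.of_apply, Matrix.mul_apply, Matrix.transpose_apply]
  conv_lhs => rw [← b.sum_repr (g (b i)), ← b.sum_repr (g (b j))]
  simp only [map_sum, map_smul, LinearMap.sum_apply, LinearMap.smul_apply, smul_eq_mul,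
    Finset.mul_sum, Finset.sum_mul, LinearMap.toMatrix_apply]
  refine Finset.sum_congr rfl fun a _ => Finset.sum_congr rfl fun c _ => ?_
  ring

theorem halfDisc_comp (hn : Odd n) (b : Module.Basis (Fin n) R M) (Q : QuadraticForm R M)
    (g : M →ₗ[R] M) :
    QuadGrp.halfDisc b (LinearEquiv.refl R R) (Q.comp g) =
      LinearMap.det g ^ 2 * QuadGrp.halfDisc b (LinearEquiv.refl R R) Q := by
  obtain ⟨B, rfl⟩ := exists_lift b Q
  rw [halfDisc_eq_hU b _ (B.compl₁₂ g g) (by ext x; simp), halfDisc_eq_hU b _ B rfl]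
  have : (Matrix.of fun i j => (B.compl₁₂ g g) (b i) (b j)) =
      (Matrix.of fun i j => B (g (b i)) (g (b j))) := rfl
  rw [this, bilin_matrix_comp, hU_congr hn, Matrix.det_transpose, LinearMap.det_toMatrix]

end QuadGrpLib
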